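import Cfsg.Agent.SL2.PSL

/-!
# `PSL₂`: four-groups
-/

set_option autoImplicit false

namespace CfsgLib.SL2

section General

variable {G : Type*} [Group G]

/-- The four-group generated by two commuting involutions, as a set-based subgroup. -/
def vFour (a b : G) (ha : a * a = 1) (hb : b * b = 1) (hab : Commute a b) : Subgroup G where
  carrier := {1, a, b, a * b}
  one_mem' := Or.inl rfl
  mul_mem' {x y} hx hy := by
    have e1 : a * (a * b) = b := by rw [← mul_assoc, ha, one_mul]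
    have e2 : b * a = a * b := hab.eq.symm
    have e3 : b * (a * b) = a := by rw [← mul_assoc, e2, mul_assoc, hb, mul_one]
    have e4 : a * b * a = b := by rw [mul_assoc, e2, e1]
    have e5 : a * b * b = a := by rw [mul_assoc, hb, mul_one]
    have e6 : a * b * (a * b) = 1 := by rw [← mul_assoc, e4, hb]
    simp only [Set.mem_insert_iff, Set.mem_singleton_iff] at hx hy ⊢
    rcases hx with rfl | rfl | rfl | rfl <;> rcases hy with rfl | rfl | rfl | rfl <;>
      simp [ha, hb, e1, e2, e3, e4, e5, e6]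
  inv_mem' {x} hx := by
    have ia : a⁻¹ = a := inv_eq_of_mul_eq_one_right ha
    have ib : b⁻¹ = b := inv_eq_of_mul_eq_one_right hb
    simp only [Set.mem_insert_iff, Set.mem_singleton_iff] at hx ⊢
    rcases hx with rfl | rfl | rfl | rfl <;> simp [ia, ib, hab.eq.symm]

lemma isKleinFour_vFour {a b : G} (ha : orderOf a = 2) (hb : orderOf b = 2) (hab : Commute a b)
    (hne : a ≠ b) :
    IsKleinFour (vFour a b (by rw [← pow_two, ← ha, pow_orderOf_eq_one])
      (by rw [← pow_two, ← hb, pow_orderOf_eq_one]) hab) := by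
  classical
  have ha1 : a ≠ 1 := fun h => by simp [h] at ha
  have hb1 : b ≠ 1 := fun h => by simp [h] at hb
  have ha2 : a * a = 1 := by rw [← pow_two, ← ha, pow_orderOf_eq_one]
  have hb2 : b * b = 1 := by rw [← pow_two, ← hb, pow_orderOf_eq_one]
  have hab1 : a * b ≠ 1 := fun h => hne (mul_left_cancel (a := a) (by rw [ha2, h]))
  refine ⟨?_, ?_⟩
  · show Nat.card ({1, a, b, a * b} : Set G) = 4
    rw [Nat.card_coe_set_eq, Set.ncard_eq_toFinset_card']
    simp only [Set.toFinset_insert, Set.toFinset_singleton]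
    rw [Finset.card_insert_of_notMem, Finset.card_insert_of_notMem, Finset.card_insert_of_notMem,
      Finset.card_singleton] <;> simp [ha1.symm, hb1.symm, hab1.symm, hne, ha1, hb1]
  · have hnt : Nontrivial (vFour a b ha2 hb2 hab) :=
      ⟨⟨⟨a, Or.inr (Or.inl rfl)⟩, 1, fun h => ha1 (congrArg Subtype.val h)⟩⟩
    refine (Monoid.exponent_eq_prime_iff Nat.prime_two).2 fun x hx => ?_
    refine orderOf_eq_prime ?_ hx
    obtain ⟨x, h | h | h | h⟩ := x <;> subst h <;> apply Subtype.ext <;> simp only [pow_two]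
    · exact one_mul 1
    · exact ha2
    · exact hb2
    · show a * b * (a * b) = 1
      rw [← mul_assoc, mul_assoc a b a, hab.eq.symm, ← mul_assoc, ha2, one_mul, hb2]

lemma mul_self_of_mem_klein {V : Subgroup G} (hV : IsKleinFour V) {a : G} (ha : a ∈ V) :
    a * a = 1 := congrArg Subtype.val (hV.mul_self ⟨a, ha⟩)

lemma orderOf_of_mem_klein {V : Subgroup G} (hV : IsKleinFour V) {a : G} (ha : a ∈ V) (h1 : a ≠ 1) :
    orderOf a = 2 :=
  orderOf_eq_prime (by rw [pow_two, mul_self_of_mem_klein hV ha]) h1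

lemma commute_of_mem_klein {V : Subgroup G} (hV : IsKleinFour V) {a b : G} (ha : a ∈ V) (hb : b ∈ V) :
    Commute a b := by
  have h1 := mul_self_of_mem_klein hV (mul_mem ha hb)
  have ia := inv_eq_of_mul_eq_one_right (mul_self_of_mem_klein hV ha)
  have ib := inv_eq_of_mul_eq_one_right (mul_self_of_mem_klein hV hb)
  calc a * b = (a * b)⁻¹ := (inv_eq_of_mul_eq_one_right h1).symm
    _ = b * a := by rw [mul_inv_rev, ia, ib]

lemma eq_vFour {V : Subgroup G} (hV : IsKleinFour V) {a b : G} (ha : a ∈ V) (hb : b ∈ V)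
    (ha1 : a ≠ 1) (hb1 : b ≠ 1) (hne : a ≠ b) :
    V = vFour a b (mul_self_of_mem_klein hV ha) (mul_self_of_mem_klein hV hb)
      (commute_of_mem_klein hV ha hb) := by
  have hle : vFour a b (mul_self_of_mem_klein hV ha) (mul_self_of_mem_klein hV hb)
      (commute_of_mem_klein hV ha hb) ≤ V := by
    rintro x (rfl | rfl | rfl | rfl)
    exacts [one_mem V, ha, hb, mul_mem ha hb]
  have hK := isKleinFour_vFour (orderOf_of_mem_klein hV ha ha1) (orderOf_of_mem_klein hV hb hb1)
    (commute_of_mem_klein hV ha hb) hne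
  have : Finite V := Nat.finite_of_card_ne_zero (by rw [hV.card_four]; norm_num)
  exact (Subgroup.eq_of_le_of_card_ge hle (by rw [hV.card_four, hK.card_four])).symm

private lemma sigma_sub_ext {P : Subgroup G → Prop}
    {s t : Σ V : {V : Subgroup G // P V}, {q : V.1 × V.1 // q.1 ≠ 1 ∧ q.2 ≠ 1 ∧ q.1 ≠ q.2}}
    (h1 : s.1.1 = t.1.1) (h2 : (s.2.1.1 : G) = t.2.1.1) (h3 : (s.2.1.2 : G) = t.2.1.2) : s = t := by
  obtain ⟨⟨V, hV⟩, ⟨⟨a, ha⟩, ⟨b, hb⟩⟩, hs⟩ := s
  obtain ⟨⟨W, hW⟩, ⟨⟨a', ha'⟩, ⟨b', hb'⟩⟩, ht⟩ := t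
  subst h1
  simp only at h2 h3
  subst h2 h3
  rfl

/-- Each four-group contains six ordered pairs of distinct involutions. -/
lemma card_commuting_involution_pairs [Finite G] :
    Nat.card {q : G × G // orderOf q.1 = 2 ∧ orderOf q.2 = 2 ∧ Commute q.1 q.2 ∧ q.1 ≠ q.2} =
      6 * Nat.card {V : Subgroup G // IsKleinFour V} := by
  classical
  have e : {q : G × G // orderOf q.1 = 2 ∧ orderOf q.2 = 2 ∧ Commute q.1 q.2 ∧ q.1 ≠ q.2} ≃
      Σ V : {V : Subgroup G // IsKleinFour V},
        {q : V.1 × V.1 // q.1 ≠ 1 ∧ q.2 ≠ 1 ∧ q.1 ≠ q.2} :=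
    { toFun := fun q =>
        ⟨⟨_, isKleinFour_vFour q.2.1 q.2.2.1 q.2.2.2.1 q.2.2.2.2⟩,
          ⟨(⟨q.1.1, Or.inr (Or.inl rfl)⟩, ⟨q.1.2, Or.inr (Or.inr (Or.inl rfl))⟩),
            fun h => by
              have := congrArg (fun z => orderOf (Subtype.val z)) h
              simp [q.2.1] at this,
            fun h => by
              have := congrArg (fun z => orderOf (Subtype.val z)) h
              simp [q.2.2.1] at this,
            fun h => q.2.2.2.2 (congrArg Subtype.val h)⟩⟩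
      invFun := fun s =>
        ⟨((s.2.1.1 : G), (s.2.1.2 : G)),
          orderOf_of_mem_klein s.1.2 s.2.1.1.2 (fun h => s.2.2.1 (Subtype.ext h)),
          orderOf_of_mem_klein s.1.2 s.2.1.2.2 (fun h => s.2.2.2.1 (Subtype.ext h)),
          commute_of_mem_klein s.1.2 s.2.1.1.2 s.2.1.2.2,
          fun h => s.2.2.2.2 (Subtype.ext h)⟩
      left_inv := fun q => rfl
      right_inv := by
        rintro ⟨⟨V, hV⟩, ⟨⟨a, ha⟩, ⟨b, hb⟩⟩, h1, h2, h3⟩
        exact sigma_sub_ext (eq_vFour hV ha hb (fun h => h1 (Subtype.ext h)) (fun h => h2 (Subtype.ext h))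
          (fun h => h3 (Subtype.ext h))).symm rfl rfl }
  have hsix : ∀ V : {V : Subgroup G // IsKleinFour V},
      Nat.card {q : V.1 × V.1 // q.1 ≠ 1 ∧ q.2 ≠ 1 ∧ q.1 ≠ q.2} = 6 := by
    intro V
    have := Fintype.ofFinite V.1
    have hc : Fintype.card V.1 = 4 := by rw [← Nat.card_eq_fintype_card]; exact V.2.card_four
    let e4 : V.1 ≃ Fin 4 :=
      (Fintype.equivFinOfCardEq hc).trans (Equiv.swap (Fintype.equivFinOfCardEq hc 1) 0)
    have h10 : e4 1 = 0 := by simp [e4]
    have e' : {q : V.1 × V.1 // q.1 ≠ 1 ∧ q.2 ≠ 1 ∧ q.1 ≠ q.2} ≃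
        {q : Fin 4 × Fin 4 // q.1 ≠ 0 ∧ q.2 ≠ 0 ∧ q.1 ≠ q.2} :=
      (e4.prodCongr e4).subtypeEquiv (fun q => by
        have hz : ∀ x : V.1, e4 x = 0 ↔ x = 1 := fun x => by rw [← h10, e4.injective.eq_iff]
        simp [hz, e4.injective.eq_iff])
    rw [Nat.card_congr e', Nat.card_eq_fintype_card]
    decide
  have := Fintype.ofFinite {V : Subgroup G // IsKleinFour V}
  rw [Nat.card_congr e, Nat.card_sigma, Finset.sum_congr rfl (fun V _ => hsix V)]
  simp [Nat.card_eq_fintype_card, mul_comm]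

end General

variable {F : Type*} [Field F]

local notation "SL₂" F => Matrix.SpecialLinearGroup (Fin 2) F
local notation "PSL₂" F => Matrix.ProjectiveSpecialLinearGroup (Fin 2) F

/-- The order of the torus of an element of trace zero is divisible by 8 iff `q ≡ ±1 (mod 8)`. -/
lemma card_centralizer_tr_zero [Fintype F] (h2 : (2 : F) ≠ 0) {g : SL₂ F} (hg : tr g = 0) :
    (Fintype.card F % 4 = 1 → Nat.card (Subgroup.centralizer ({g} : Set (SL₂ F))) = Fintype.card F - 1) ∧
    (Fintype.card F % 4 = 3 → Nat.card (Subgroup.centralizer ({g} : Set (SL₂ F))) = Fintype.card F + 1) := by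
  constructor <;> intro h
  · refine card_centralizer_split (tr_zero_sq_ne_four h2 hg) ?_
    rw [hg, isSplitTrace_iff_root]
    obtain ⟨i, hi⟩ := FiniteField.isSquare_neg_one_iff.2 (show Fintype.card F % 4 ≠ 3 by omega)
    exact ⟨i, by linear_combination -hi⟩
  · refine card_centralizer_nonsplit ?_
    rw [hg, isSplitTrace_iff_root]
    rintro ⟨i, hi⟩
    exact FiniteField.isSquare_neg_one_iff.1 ⟨i, by linear_combination -hi⟩ h

/-- Six four-group pairs: `12 * #four-groups = |PSL₂|`. -/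
lemma card_klein_four [Fintype F] (hodd : Odd (Fintype.card F)) :
    12 * Nat.card {V : Subgroup (PSL₂ F) // IsKleinFour V} = Nat.card (PSL₂ F) := by
  classical
  have h2 := two_ne_zero_iff_odd.2 hodd
  obtain ⟨g0, hg0⟩ : ∃ g : SL₂ F, tr g = 0 := ⟨w, tr_w⟩
  have hgx := tr_zero_sq_ne_four h2 hg0
  set n := Nat.card (Subgroup.centralizer ({g0} : Set (SL₂ F))) with hn
  -- the number of involutions commuting with a given one
  have key : ∀ a : PSL₂ F, orderOf a = 2 →
      2 * Nat.card {b : PSL₂ F // orderOf b = 2 ∧ Commute a b ∧ a ≠ b} = n := by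
    intro a ha
    obtain ⟨g, rfl⟩ := pmk_surjective a
    have hg := (orderOf_pmk_eq_two_iff h2).1 ha
    have hgt := tr_zero_sq_ne_four h2 hg
    obtain ⟨c, hc, -, hcg⟩ := exists_inverting hgt
    have hnc : Nat.card (Subgroup.centralizer ({g} : Set (SL₂ F))) = n :=
      card_centralizer_eq_of_isConj (isConj_of_tr_eq hgx (hg0.trans hg.symm))
    have hinv : ∀ k : Subgroup.centralizer ({g} : Set (SL₂ F)),
        ((k : SL₂ F) * c) * g * ((k : SL₂ F) * c)⁻¹ = g⁻¹ := by
      intro k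
      rw [show (k : SL₂ F) * c * g * ((k : SL₂ F) * c)⁻¹ = k * (c * g * c⁻¹) * (k : SL₂ F)⁻¹ by group, hc]
      rw [(Commute.inv_right (show Commute (k : SL₂ F) g from Subgroup.mem_centralizer_singleton_iff.1 k.2)).eq,
        mul_inv_cancel_right]
    let f : Subgroup.centralizer ({g} : Set (SL₂ F)) →
        {b : PSL₂ F // orderOf b = 2 ∧ Commute (pmk g) b ∧ pmk g ≠ b} := fun k =>
      ⟨pmk ((k : SL₂ F) * c),
        (orderOf_pmk_eq_two_iff h2).2 (mul_self_eq_neg_one_iff.1 (sq_of_inverting hgt h2 (hinv k))),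
        ((commute_pmk_iff h2 hg).2 ((mem_normalizer_torus_iff hgt).2 (Or.inr (hinv k)))).symm,
        fun e => by
          have hk := hinv k
          rcases pmk_eq_iff.1 e.symm with e1 | e1 <;> rw [e1] at hk
          · rw [mul_inv_cancel_right] at hk; exact inv_ne_self_of_tr hgt hk.symm
          · rw [(Commute.refl g).neg_left.eq, mul_inv_cancel_right] at hk
            exact inv_ne_self_of_tr hgt hk.symm⟩
    rw [← hnc]
    have hfib : ∀ b, Nat.card {k // f k = b} = 2 := by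
      rintro ⟨b, hb, hab, hne⟩
      obtain ⟨h, rfl⟩ := pmk_surjective b
      have hh := (orderOf_pmk_eq_two_iff h2).1 hb
      obtain ⟨e1, -⟩ := anticommute_of_commute_pmk h2 hg hh hab.symm hne.symm
      have hhinv : h * g * h⁻¹ = g⁻¹ := by
        rw [e1, inv_of_tr_zero hg, neg_mul, mul_inv_cancel_right]
      have hk0 : h * c⁻¹ ∈ Subgroup.centralizer ({g} : Set (SL₂ F)) := by
        rw [Subgroup.mem_centralizer_singleton_iff, ← mul_inv_eq_iff_eq_mul]
        have hci : c⁻¹ * g * c = g⁻¹ := by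
          have h' : g = c⁻¹ * g⁻¹ * c := by rw [← hc]; group
          calc c⁻¹ * g * c = (c⁻¹ * g⁻¹ * c)⁻¹ := by group
            _ = g⁻¹ := by rw [← h']
        calc h * c⁻¹ * g * (h * c⁻¹)⁻¹ = h * (c⁻¹ * g * c) * h⁻¹ := by group
          _ = (h * g * h⁻¹)⁻¹ := by rw [hci]; group
          _ = g := by rw [hhinv, inv_inv]
      have hneg : -(h * c⁻¹) ∈ Subgroup.centralizer ({g} : Set (SL₂ F)) := by
        rw [← neg_one_mul]
        exact mul_mem (Subgroup.center_le_centralizer _ neg_one_mem_center) hk0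
      rw [Nat.card_eq_two_iff' (⟨⟨h * c⁻¹, hk0⟩, Subtype.ext (congrArg pmk (inv_mul_cancel_right h c))⟩ :
        {k // f k = ⟨pmk h, hb, hab, hne⟩})]
      refine ⟨⟨⟨-(h * c⁻¹), hneg⟩, Subtype.ext ?_⟩, ?_, ?_⟩
      · show pmk (-(h * c⁻¹) * c) = pmk h
        rw [neg_mul, inv_mul_cancel_right, pmk_neg]
      · intro e
        have e' : -(h * c⁻¹) = h * c⁻¹ := congrArg (fun z => ((Subtype.val z) : SL₂ F)) (congrArg Subtype.val e)
        exact neg_one_ne_one h2 (mul_right_cancel (b := h * c⁻¹) (by rw [neg_one_mul, e', one_mul]))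
      · rintro ⟨⟨k, hk⟩, hkb⟩ hne'
        rcases pmk_eq_iff.1 (congrArg Subtype.val hkb : pmk (k * c) = pmk h) with e | e
        · refine absurd ?_ hne'
          exact Subtype.ext (Subtype.ext (eq_mul_inv_of_mul_eq e))
        · refine Subtype.ext (Subtype.ext ?_)
          show k = -(h * c⁻¹)
          rw [← neg_mul]
          exact eq_mul_inv_of_mul_eq e
    rw [← Nat.card_congr (Equiv.sigmaFiberEquiv f)]
    have := Fintype.ofFinite {b : PSL₂ F // orderOf b = 2 ∧ Commute (pmk g) b ∧ pmk g ≠ b}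
    rw [Nat.card_sigma, Finset.sum_congr rfl (fun b _ => hfib b)]
    simp [Nat.card_eq_fintype_card, mul_comm]
  -- the number of involutions
  have hinv : Nat.card {a : PSL₂ F // orderOf a = 2} * n = Nat.card (PSL₂ F) := by
    have hset : {a : PSL₂ F | orderOf a = 2} = (ConjClasses.mk (pmk g0)).carrier := by
      ext a
      rw [ConjClasses.mem_carrier_iff_mk_eq, ConjClasses.mk_eq_mk_iff_isConj]
      constructor
      · intro ha
        exact isConj_of_orderOf_two ha ((orderOf_pmk_eq_two_iff h2).2 hg0)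
      · intro h
        obtain ⟨z, hz⟩ := isConj_iff.1 h.symm
        rw [← hz]
        exact (orderOf_injective (MulAut.conj z).toMonoidHom (MulAut.conj z).injective _).trans
          ((orderOf_pmk_eq_two_iff h2).2 hg0)
    have h := CfsgLib.Psl2Unipotent.card_conj_carrier (pmk g0)
    rw [← hset, card_centralizer_pmk h2 hg0] at h
    exact h
  have hpairs := card_commuting_involution_pairs (G := PSL₂ F)
  have e : {q : (PSL₂ F) × (PSL₂ F) // orderOf q.1 = 2 ∧ orderOf q.2 = 2 ∧ Commute q.1 q.2 ∧ q.1 ≠ q.2} ≃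
      Σ a : {a : PSL₂ F // orderOf a = 2}, {b : PSL₂ F // orderOf b = 2 ∧ Commute a.1 b ∧ a.1 ≠ b} :=
    { toFun := fun q => ⟨⟨q.1.1, q.2.1⟩, ⟨q.1.2, q.2.2⟩⟩
      invFun := fun s => ⟨(s.1.1, s.2.1), s.1.2, s.2.2⟩
      left_inv := fun q => rfl
      right_inv := fun s => rfl }
  have := Fintype.ofFinite {a : PSL₂ F // orderOf a = 2}
  rw [Nat.card_congr e, Nat.card_sigma] at hpairs
  have h6 : 2 * (6 * Nat.card {V : Subgroup (PSL₂ F) // IsKleinFour V}) = Nat.card (PSL₂ F) := by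
    rw [← hpairs, Finset.mul_sum, Finset.sum_congr rfl (fun a _ => key a.1 a.2), Finset.sum_const,
      Finset.card_univ, smul_eq_mul, ← Nat.card_eq_fintype_card, hinv]
  linarith

/-- The four-groups through the involution of `g`: with `C = C(g)` and a fixed inverting `c`. -/
lemma klein_conj_classes [Fintype F] (hodd : Odd (Fintype.card F)) :
    ((Fintype.card F % 8 = 3 ∨ Fintype.card F % 8 = 5) →
      ∀ V W : Subgroup (PSL₂ F), IsKleinFour V → IsKleinFour W →
        ∃ g : PSL₂ F, W = V.map (MulAut.conj g).toMonoidHom) ∧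
    ((Fintype.card F % 8 = 1 ∨ Fintype.card F % 8 = 7) →
      ∃ V₁ V₂ : Subgroup (PSL₂ F), IsKleinFour V₁ ∧ IsKleinFour V₂ ∧
        (¬ ∃ g : PSL₂ F, V₂ = V₁.map (MulAut.conj g).toMonoidHom) ∧
        ∀ W : Subgroup (PSL₂ F), IsKleinFour W →
          (∃ g : PSL₂ F, W = V₁.map (MulAut.conj g).toMonoidHom) ∨
            (∃ g : PSL₂ F, W = V₂.map (MulAut.conj g).toMonoidHom)) := by
  classical
  have h2 := two_ne_zero_iff_odd.2 hodd
  obtain ⟨a, ha⟩ : ∃ g : SL₂ F, tr g = 0 := ⟨w, tr_w⟩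
  have hat := tr_zero_sq_ne_four h2 ha
  have hac := not_mem_center_of_tr_sq_ne hat
  set C := Subgroup.centralizer ({a} : Set (SL₂ F)) with hC
  obtain ⟨c, hc, hcc, hcC⟩ := exists_inverting hat
  have hcy : IsCyclic C := isCyclic_centralizer hat
  obtain ⟨⟨x, hx⟩, hgen⟩ := IsCyclic.exists_generator (α := C)
  have haC : a ∈ C := Subgroup.mem_centralizer_singleton_iff.2 rfl
  have hm1 : (-1 : SL₂ F) ∈ C := Subgroup.center_le_centralizer _ neg_one_mem_center
  have hxcard : orderOf x = Nat.card C := by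
    rw [← orderOf_eq_card_of_forall_mem_zpowers hgen, Subgroup.orderOf_mk]
  -- squares in `C`
  let Sq : (SL₂ F) → Prop := fun k => ∃ y ∈ C, y * y = k
  have hor : ∀ k ∈ C, Sq k ∨ Sq (x⁻¹ * k) := by
    intro k hk
    obtain ⟨j, hj⟩ := Subgroup.mem_zpowers_iff.1 (hgen ⟨k, hk⟩)
    have hj' : x ^ j = k := congrArg Subtype.val hj
    rcases Int.even_or_odd j with ⟨i, hi⟩ | ⟨i, hi⟩
    · exact Or.inl ⟨x ^ i, zpow_mem hx i, by rw [← zpow_add, ← hi, hj']⟩
    · exact Or.inr ⟨x ^ i, zpow_mem hx i, by rw [← hj', hi]; group⟩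
  have hcomm : ∀ {u v : SL₂ F}, u ∈ C → v ∈ C → u * v = v * u := fun hu hv =>
    centralizer_commute hac hu hv
  have h4 : 4 ∣ Nat.card C := by
    have ho : orderOf a = 4 := by
      refine orderOf_eq_prime_pow (p := 2) (n := 1) ?_ ?_
      · rw [pow_one, pow_two, mul_self_of_tr_eq_zero ha]; exact neg_one_ne_one h2
      · rw [show (2 : ℕ) ^ (1 + 1) = 2 * 2 from rfl, pow_mul, pow_two a, mul_self_of_tr_eq_zero ha, neg_one_sq]
    rw [← ho, ← Subgroup.orderOf_mk a haC]
    exact orderOf_dvd_natCard _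
  have hx0 : ¬ Sq x := by
    rintro ⟨y, hy, hyx⟩
    obtain ⟨j, hj⟩ := Subgroup.mem_zpowers_iff.1 (hgen ⟨y, hy⟩)
    have hj' : x ^ j = y := congrArg Subtype.val hj
    rw [← hj', ← zpow_add] at hyx
    have h1 : x ^ (j + j - 1) = 1 := by rw [zpow_sub, hyx, zpow_one, mul_inv_cancel]
    have hd := orderOf_dvd_iff_zpow_eq_one.2 h1
    rw [hxcard] at hd
    have h22 : (2 : ℤ) ∣ j + j - 1 := Dvd.dvd.trans (by exact_mod_cast (dvd_trans (by norm_num) h4 : 2 ∣ Nat.card C)) hd
    omega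
  have hzero : ∀ k ∈ C, Sq k → Sq (-k) := by
    rintro k hk ⟨y, hy, rfl⟩
    refine ⟨a * y, mul_mem haC hy, ?_⟩
    calc a * y * (a * y) = a * (y * a) * y := by group
      _ = a * (a * y) * y := by rw [hcomm hy haC]
      _ = (a * a) * (y * y) := by group
      _ = -(y * y) := by rw [mul_self_of_tr_eq_zero ha, neg_one_mul]
  have hamem : Sq a ↔ 8 ∣ Nat.card C := by
    constructor
    · rintro ⟨y, hy, hya⟩
      have ho : orderOf y = 8 := by
        refine orderOf_eq_prime_pow (p := 2) (n := 2) ?_ ?_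
        · rw [show (2 : ℕ) ^ 2 = 2 * 2 from rfl, pow_mul, pow_two, pow_two, hya, mul_self_of_tr_eq_zero ha]
          exact neg_one_ne_one h2
        · rw [show (2 : ℕ) ^ (2 + 1) = 2 * 2 * 2 from rfl, pow_mul, pow_mul, pow_two y, hya, pow_two a,
            mul_self_of_tr_eq_zero ha, neg_one_sq]
      rw [← ho, ← Subgroup.orderOf_mk y hy]
      exact orderOf_dvd_natCard _
    · intro h8
      rcases hor a haC with h | ⟨y, hy, hyy⟩
      · exact h
      · exfalso
        obtain ⟨j, hj⟩ := Subgroup.mem_zpowers_iff.1 (hgen ⟨y, hy⟩)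
        have hj' : x ^ j = y := congrArg Subtype.val hj
        have ha' : a = x ^ (j + j + 1) := by
          rw [zpow_add, zpow_add, zpow_one, hj', hyy, hcomm (mul_mem (inv_mem hx) haC) hx,
            mul_inv_cancel_left]
        have h1 : x ^ ((j + j + 1) * 4) = 1 := by
          rw [zpow_mul, ← ha', show (4 : ℤ) = ((2 * 2 : ℕ) : ℤ) from rfl, zpow_natCast, pow_mul, pow_two a,
            mul_self_of_tr_eq_zero ha, neg_one_sq]
        have hd := orderOf_dvd_iff_zpow_eq_one.2 h1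
        rw [hxcard] at hd
        have h88 : (8 : ℤ) ∣ (j + j + 1) * 4 := Dvd.dvd.trans (by exact_mod_cast h8) hd
        omega
  -- the four-group of `pmk a` and `pmk (k * c)`
  have hinvk : ∀ k ∈ C, k * c * a * (k * c)⁻¹ = a⁻¹ := by
    intro k hk
    rw [show k * c * a * (k * c)⁻¹ = k * (c * a * c⁻¹) * k⁻¹ by group, hc, hcomm hk (inv_mem haC),
      mul_inv_cancel_right]
  have hord : ∀ k ∈ C, orderOf (pmk (k * c)) = 2 := fun k hk =>
    (orderOf_pmk_eq_two_iff h2).2 (mul_self_eq_neg_one_iff.1 (sq_of_inverting hat h2 (hinvk k hk)))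
  have hordA := (orderOf_pmk_eq_two_iff h2).2 ha
  have hca : ∀ k ∈ C, Commute (pmk a) (pmk (k * c)) := fun k hk =>
    ((commute_pmk_iff h2 ha).2 ((mem_normalizer_torus_iff hat).2 (Or.inr (hinvk k hk)))).symm
  have hnotC : ∀ k ∈ C, ∀ u ∈ C, pmk (k * c) ≠ pmk u := by
    intro k hk u hu e
    apply hcC
    rcases pmk_eq_iff.1 e with e1 | e1
    · rw [show c = k⁻¹ * (k * c) by group, e1]; exact mul_mem (inv_mem hk) hu
    · rw [show c = k⁻¹ * (k * c) by group, e1, ← neg_one_mul]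
      exact mul_mem (inv_mem hk) (mul_mem hm1 hu)
  have hnek : ∀ k ∈ C, pmk a ≠ pmk (k * c) := fun k hk e => hnotC k hk a haC e.symm
  have hsame : ∀ k ∈ C, ∀ k' ∈ C, pmk (k * c) = pmk (k' * c) → k = k' ∨ k = -k' := by
    intro k _ k' _ e
    rcases pmk_eq_iff.1 e with e1 | e1
    · exact Or.inl (mul_right_cancel e1)
    · exact Or.inr (mul_right_cancel (b := c) (by rw [e1, neg_mul]))
  -- conjugation by `y ∈ C`
  have hconjy : ∀ y ∈ C, pmk y * pmk a * (pmk y)⁻¹ = pmk a ∧
      ∀ k ∈ C, pmk y * pmk (k * c) * (pmk y)⁻¹ = pmk (y * y * k * c) := by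
    intro y hy
    constructor
    · rw [← map_mul, ← map_inv, ← map_mul, hcomm hy haC, mul_inv_cancel_right]
    · intro k hk
      rw [← map_mul, ← map_inv, ← map_mul]
      congr 1
      have e := inverts_torus hat hc (inv_mem hy)
      rw [inv_inv] at e
      calc y * (k * c) * y⁻¹ = (y * k) * (c * y⁻¹ * c⁻¹) * c := by group
        _ = y * (k * y) * c := by rw [e]; group
        _ = y * y * k * c := by rw [hcomm hk hy]; group
  -- every four-group is conjugate to one through `pmk a`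
  have hthrough : ∀ V : Subgroup (PSL₂ F), IsKleinFour V →
      ∃ z : PSL₂ F, pmk a ∈ V.map (MulAut.conj z).toMonoidHom := by
    intro V hV
    haveI : Nontrivial V := Finite.one_lt_card_iff_nontrivial.1 (by rw [hV.card_four]; norm_num)
    obtain ⟨⟨v, hv⟩, hv1⟩ := exists_ne (1 : V)
    have hvo := orderOf_of_mem_klein hV hv (fun h => hv1 (Subtype.ext h))
    obtain ⟨z, hz⟩ := isConj_iff.1 (isConj_of_orderOf_two hvo hordA)
    exact ⟨z, v, hv, hz⟩
  have hklmap : ∀ (V : Subgroup (PSL₂ F)) (z : PSL₂ F), IsKleinFour V →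
      IsKleinFour (V.map (MulAut.conj z).toMonoidHom) := by
    intro V z hV
    have e := V.equivMapOfInjective (MulAut.conj z).toMonoidHom (MulAut.conj z).injective
    exact ⟨by rw [← Nat.card_congr e.toEquiv]; exact hV.card_four,
      by rw [← Monoid.exponent_eq_of_mulEquiv e]; exact hV.exponent_two⟩
  have hpartner : ∀ W : Subgroup (PSL₂ F), IsKleinFour W → pmk a ∈ W →
      ∃ k ∈ C, pmk (k * c) ∈ W := by
    intro W hW haW
    have hfin : Finite W := inferInstance
    obtain ⟨⟨v, hv⟩, hv1, hva⟩ : ∃ v : W, v ≠ 1 ∧ v ≠ ⟨pmk a, haW⟩ := by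
      by_contra hcon
      push Not at hcon
      have hle : Nat.card W ≤ Nat.card ({1, ⟨pmk a, haW⟩} : Set W) := by
        refine Nat.card_le_card_of_injective (fun v => ⟨v, ?_⟩) (fun u v h => congrArg Subtype.val h)
        by_cases h1 : v = 1
        · exact Or.inl h1
        · exact Or.inr (hcon v h1)
      rw [hW.card_four, Nat.card_coe_set_eq] at hle
      have := (Set.ncard_insert_le (1 : W) ({⟨pmk a, haW⟩} : Set W))
      rw [Set.ncard_singleton] at this
      omega
    obtain ⟨h, rfl⟩ := pmk_surjective v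
    have hh := (orderOf_pmk_eq_two_iff h2).1
      (orderOf_of_mem_klein hW hv (fun e => hv1 (Subtype.ext e)))
    obtain ⟨e1, -⟩ := anticommute_of_commute_pmk h2 ha hh (commute_of_mem_klein hW hv haW)
      (fun e => hva (Subtype.ext e))
    have hhinv : h * a * h⁻¹ = a⁻¹ := by rw [e1, inv_of_tr_zero ha, neg_mul, mul_inv_cancel_right]
    refine ⟨h * c⁻¹, ?_, by rw [inv_mul_cancel_right]; exact hv⟩
    rw [hC, Subgroup.mem_centralizer_singleton_iff, ← mul_inv_eq_iff_eq_mul]
    have hci : c⁻¹ * a * c = a⁻¹ := by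
      have h' : a = c⁻¹ * a⁻¹ * c := by rw [← hc]; group
      calc c⁻¹ * a * c = (c⁻¹ * a⁻¹ * c)⁻¹ := by group
        _ = a⁻¹ := by rw [← h']
    calc h * c⁻¹ * a * (h * c⁻¹)⁻¹ = h * (c⁻¹ * a * c) * h⁻¹ := by group
      _ = (h * a * h⁻¹)⁻¹ := by rw [hci]; group
      _ = a := by rw [hhinv, inv_inv]
  -- the two candidates
  have hsq2 : ∀ {z : PSL₂ F}, orderOf z = 2 → z * z = 1 := fun h => by
    rw [← pow_two]; exact orderOf_dvd_iff_pow_eq_one.1 (dvd_of_eq h)
  let V : (k : SL₂ F) → (hk : k ∈ C) → Subgroup (PSL₂ F) := fun k hk =>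
    vFour (pmk a) (pmk (k * c)) (hsq2 hordA)
      (hsq2 (hord k hk)) (hca k hk)
  have hVK : ∀ (k : SL₂ F) (hk : k ∈ C), IsKleinFour (V k hk) := fun k hk =>
    isKleinFour_vFour hordA (hord k hk) (hca k hk) (hnek k hk)
  have hne1 : ∀ {z : PSL₂ F}, orderOf z = 2 → z ≠ 1 := fun h e => by simp [e] at h
  -- a square multiple gives the same class
  have hshift : ∀ (k : SL₂ F) (hk : k ∈ C) (k' : SL₂ F) (hk' : k' ∈ C), Sq (k' * k⁻¹) →
      ∃ z, V k' hk' = (V k hk).map (MulAut.conj z).toMonoidHom := by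
    rintro k hk k' hk' ⟨y, hy, hyy⟩
    refine ⟨pmk y, (eq_vFour (hklmap _ _ (hVK k hk)) ⟨pmk a, Or.inr (Or.inl rfl), (hconjy y hy).1⟩
      ⟨pmk (k * c), Or.inr (Or.inr (Or.inl rfl)), ?_⟩ (hne1 hordA) (hne1 (hord k' hk')) (hnek k' hk')).symm⟩
    show pmk y * pmk (k * c) * (pmk y)⁻¹ = pmk (k' * c)
    rw [(hconjy y hy).2 k hk, hyy, inv_mul_cancel_right]
  have hred : ∀ W : Subgroup (PSL₂ F), IsKleinFour W →
      (∃ z, W = (V 1 (one_mem C)).map (MulAut.conj z).toMonoidHom) ∨
        (∃ z, W = (V x hx).map (MulAut.conj z).toMonoidHom) := by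
    intro W hW
    obtain ⟨z, hz⟩ := hthrough W hW
    have hW' := hklmap W z hW
    obtain ⟨k, hk, hkW⟩ := hpartner _ hW' hz
    have hWeq : W.map (MulAut.conj z).toMonoidHom = V k hk :=
      eq_vFour hW' hz hkW (hne1 hordA) (hne1 (hord k hk)) (hnek k hk)
    have back : ∀ (U : Subgroup (PSL₂ F)) (z' : PSL₂ F),
        W.map (MulAut.conj z).toMonoidHom = U.map (MulAut.conj z').toMonoidHom →
          W = U.map (MulAut.conj (z⁻¹ * z')).toMonoidHom := by
      intro U z' h
      have e1 : W = (W.map (MulAut.conj z).toMonoidHom).map (MulAut.conj z⁻¹).toMonoidHom := by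
        rw [Subgroup.map_map, show (MulAut.conj z⁻¹).toMonoidHom.comp (MulAut.conj z).toMonoidHom =
          MonoidHom.id _ by ext u; simp, Subgroup.map_id]
      nth_rw 1 [e1]
      rw [h, Subgroup.map_map]
      congr 1
      ext u
      simp [MulAut.conj_apply, mul_assoc]
    rcases hor k hk with hs | hs
    · left
      obtain ⟨z', hz'⟩ := hshift 1 (one_mem C) k hk (by simpa using hs)
      exact ⟨_, back _ _ (hWeq.trans hz')⟩
    · right
      obtain ⟨z', hz'⟩ := hshift x hx k hk (by rw [hcomm hk (inv_mem hx)]; exact hs)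
      exact ⟨_, back _ _ (hWeq.trans hz')⟩
  have hcardC : (Fintype.card F % 8 = 1 ∨ Fintype.card F % 8 = 7) ↔ 8 ∣ Nat.card C := by
    obtain ⟨e1, e3⟩ := card_centralizer_tr_zero h2 ha
    have hq := Nat.odd_iff.1 hodd
    rcases (show Fintype.card F % 4 = 1 ∨ Fintype.card F % 4 = 3 by omega) with h | h
    · rw [e1 h]; omega
    · rw [e3 h]; omega
  constructor
  · intro hq V' W' hV' hW'
    have hns : ¬ Sq a := fun h => by
      have := hcardC.2 (hamem.1 h)
      omega
    have h1x : ∃ z, V x hx = (V 1 (one_mem C)).map (MulAut.conj z).toMonoidHom := by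
      have hax : a * x ∈ C := mul_mem haC hx
      have hs : Sq (a * x) := by
        rcases hor (a * x) hax with h | ⟨y, hy, hyy⟩
        · exact h
        · exfalso
          refine hns ⟨y, hy, ?_⟩
          rw [hyy, hcomm haC hx, inv_mul_cancel_left]
      obtain ⟨z, hz⟩ := hshift 1 (one_mem C) (a * x) hax (by simpa using hs)
      refine ⟨z, ?_⟩
      rw [← hz]
      refine eq_vFour (hVK x hx) (Or.inr (Or.inl rfl)) ?_ (hne1 hordA) (hne1 (hord _ hax)) (hnek _ hax)
      rw [mul_assoc, map_mul]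
      exact mul_mem (Or.inr (Or.inl rfl)) (Or.inr (Or.inr (Or.inl rfl)))
    have hall : ∀ U : Subgroup (PSL₂ F), IsKleinFour U →
        ∃ z, U = (V 1 (one_mem C)).map (MulAut.conj z).toMonoidHom := by
      intro U hU
      rcases hred U hU with h | ⟨z, hz⟩
      · exact h
      · obtain ⟨z', hz'⟩ := h1x
        refine ⟨z * z', ?_⟩
        rw [hz, hz', Subgroup.map_map]
        congr 1
        ext u
        simp [MulAut.conj_apply, mul_assoc]
    obtain ⟨z, hz⟩ := hall V' hV'
    obtain ⟨z', hz'⟩ := hall W' hW'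
    refine ⟨z' * z⁻¹, ?_⟩
    rw [hz', hz, Subgroup.map_map]
    congr 1
    ext u
    simp [MulAut.conj_apply, mul_assoc]
  · intro hq
    have hsq : Sq a := hamem.2 (hcardC.1 hq)
    refine ⟨V 1 (one_mem C), V x hx, hVK 1 (one_mem C), hVK x hx, ?_, hred⟩
    rintro ⟨z0, hz0⟩
    -- adjust so that `pmk a` is fixed
    have hsqI : a * a = -1 := mul_self_of_tr_eq_zero ha
    have hsqJ : (x * c) * (x * c) = -1 := sq_of_inverting hat h2 (hinvk x hx)
    have hJI : x * c * a = -(a * (x * c)) := by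
      have e := hinvk x hx
      rw [mul_inv_eq_iff_eq_mul, inv_of_tr_zero ha, neg_mul] at e
      exact e
    obtain ⟨h3, -, h3y, h3x⟩ := exists_three h2 hsqI hsqJ hJI
    -- `pmk h3` permutes the involutions of `V x` cyclically
    have hrot : ∃ z, V x hx = (V 1 (one_mem C)).map (MulAut.conj z).toMonoidHom ∧
        z * pmk a * z⁻¹ = pmk a := by
      have hmem : z0 * pmk a * z0⁻¹ ∈ V x hx := by
        rw [hz0]; exact ⟨pmk a, Or.inr (Or.inl rfl), rfl⟩
      have hr : pmk h3 * pmk a * (pmk h3)⁻¹ = pmk a * pmk (x * c) := by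
        rw [← map_mul, ← map_inv, ← map_mul, h3x, map_mul]
      have hr' : pmk h3 * pmk (x * c) * (pmk h3)⁻¹ = pmk a := by
        rw [← map_mul, ← map_inv, ← map_mul, h3y]
      have hself : (V x hx).map (MulAut.conj (pmk h3)).toMonoidHom = V x hx := by
        refine (eq_vFour (hklmap _ _ (hVK x hx)) ⟨pmk (x * c), Or.inr (Or.inr (Or.inl rfl)), hr'⟩ ?_
          (hne1 hordA) (hne1 (hord x hx)) (hnek x hx))
        refine ⟨pmk a * pmk (x * c), Or.inr (Or.inr (Or.inr rfl)), ?_⟩
        show pmk h3 * (pmk a * pmk (x * c)) * (pmk h3)⁻¹ = pmk (x * c)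
        calc pmk h3 * (pmk a * pmk (x * c)) * (pmk h3)⁻¹
            = (pmk h3 * pmk a * (pmk h3)⁻¹) * (pmk h3 * pmk (x * c) * (pmk h3)⁻¹) := by group
          _ = pmk a * (pmk (x * c) * pmk a) := by rw [hr, hr']; group
          _ = pmk (x * c) := by
            rw [← (hca x hx).eq, ← mul_assoc, hsq2 hordA, one_mul]
      have hcomp : ∀ w : PSL₂ F, V x hx = (V 1 (one_mem C)).map (MulAut.conj w).toMonoidHom →
          V x hx = (V 1 (one_mem C)).map (MulAut.conj (pmk h3 * w)).toMonoidHom := by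
        intro w hw
        nth_rw 1 [← hself]
        rw [hw, Subgroup.map_map]
        congr 1
        ext u
        simp [MulAut.conj_apply, mul_assoc]
      rcases hmem with e | e | e | e
      · exfalso
        exact hne1 hordA ((MulAut.conj z0).injective (by rw [map_one]; exact e))
      · exact ⟨z0, hz0, e⟩
      · refine ⟨pmk h3 * z0, hcomp z0 hz0, ?_⟩
        rw [show pmk h3 * z0 * pmk a * (pmk h3 * z0)⁻¹ = pmk h3 * (z0 * pmk a * z0⁻¹) * (pmk h3)⁻¹ by group,
          e, hr']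
      · refine ⟨pmk h3 * (pmk h3 * z0), hcomp _ (hcomp z0 hz0), ?_⟩
        rw [show pmk h3 * (pmk h3 * z0) * pmk a * (pmk h3 * (pmk h3 * z0))⁻¹ =
          pmk h3 * (pmk h3 * (z0 * pmk a * z0⁻¹) * (pmk h3)⁻¹) * (pmk h3)⁻¹ by group, e,
          show pmk h3 * (pmk a * pmk (x * c)) * (pmk h3)⁻¹ = (pmk h3 * pmk a * (pmk h3)⁻¹) * (pmk h3 * pmk (x * c) * (pmk h3)⁻¹) by group,
          hr, hr']
        calc pmk h3 * (pmk a * pmk (x * c) * pmk a) * (pmk h3)⁻¹
            = pmk h3 * pmk (x * c) * (pmk h3)⁻¹ := by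
              rw [show pmk a * pmk (x * c) * pmk a = pmk (x * c) by
                rw [mul_assoc, ← (hca x hx).eq, ← mul_assoc, hsq2 hordA, one_mul]]
          _ = pmk a := hr'
    obtain ⟨z, hz, hza⟩ := hrot
    obtain ⟨y, rfl⟩ := pmk_surjective z
    have hyN := (commute_pmk_iff h2 ha).1 (show Commute (pmk y) (pmk a) from mul_inv_eq_iff_eq_mul.1 hza)
    -- `y` moves `pmk c` by a square
    have hmove : ∃ u ∈ C, pmk y * pmk (1 * c) * (pmk y)⁻¹ = pmk (u * u * c) := by
      rcases (mem_normalizer_torus_iff hat).1 hyN with e | e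
      · have hyC : y ∈ C := Subgroup.mem_centralizer_singleton_iff.2 (mul_inv_eq_iff_eq_mul.1 e)
        exact ⟨y, hyC, by rw [(hconjy y hyC).2 1 (one_mem C), mul_one]⟩
      · have hyC : y * c⁻¹ ∈ C := by
          rw [hC, Subgroup.mem_centralizer_singleton_iff, ← mul_inv_eq_iff_eq_mul]
          have hci : c⁻¹ * a * c = a⁻¹ := by
            have h' : a = c⁻¹ * a⁻¹ * c := by rw [← hc]; group
            calc c⁻¹ * a * c = (c⁻¹ * a⁻¹ * c)⁻¹ := by group
              _ = a⁻¹ := by rw [← h']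
          calc y * c⁻¹ * a * (y * c⁻¹)⁻¹ = y * (c⁻¹ * a * c) * y⁻¹ := by group
            _ = (y * a * y⁻¹)⁻¹ := by rw [hci]; group
            _ = a := by rw [e, inv_inv]
        refine ⟨y * c⁻¹, hyC, ?_⟩
        rw [← mul_one (y * c⁻¹ * (y * c⁻¹)), ← (hconjy _ hyC).2 1 (one_mem C), one_mul, map_mul, map_inv]
        group
    obtain ⟨u, hu, hmu⟩ := hmove
    have hmem2 : pmk (u * u * c) ∈ V x hx := by
      rw [hz, ← hmu]; exact ⟨pmk (1 * c), Or.inr (Or.inr (Or.inl rfl)), rfl⟩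
    have huu : u * u ∈ C := mul_mem hu hu
    apply hx0
    rcases hmem2 with e | e | e | e
    · exact absurd e (hne1 (hord _ huu))
    · exact absurd e.symm (hnek _ huu)
    · rcases hsame _ huu x hx e with e1 | e1
      · exact ⟨u, hu, e1⟩
      · have := hzero _ huu ⟨u, hu, rfl⟩
        rwa [e1, neg_neg] at this
    · rw [← map_mul, ← mul_assoc] at e
      have hax : a * x ∈ C := mul_mem haC hx
      have hs' : Sq (a * x) := by
        rcases hsame _ huu (a * x) hax e with e1 | e1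
        · exact ⟨u, hu, e1⟩
        · have := hzero _ huu ⟨u, hu, rfl⟩
          rwa [e1, neg_neg] at this
      obtain ⟨v, hv, hvv⟩ := hs'
      obtain ⟨r, hr, hrr⟩ := hsq
      refine ⟨r⁻¹ * v, mul_mem (inv_mem hr) hv, ?_⟩
      calc r⁻¹ * v * (r⁻¹ * v) = r⁻¹ * (v * r⁻¹) * v := by group
        _ = r⁻¹ * (r⁻¹ * v) * v := by rw [hcomm hv (inv_mem hr)]
        _ = (r * r)⁻¹ * (v * v) := by group
        _ = x := by rw [hrr, hvv, inv_mul_cancel_left]

end CfsgLib.SL2
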