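import Cfsg.Agent.SL2.Torus

/-!
# `SL₂`: anticommuting pairs

If `I * I = J * J = -1` and `J * I = -(I * J)` then an element of order 3 permutes `I`, `J`, `I * J`
cyclically up to sign.
-/

set_option autoImplicit false

namespace CfsgLib.SL2

/-- Two anticommuting elements of trace zero are permuted cyclically by an element of order 3. -/
lemma exists_three {F : Type*} [Field F] (h2 : (2 : F) ≠ 0)
    {I J : Matrix.SpecialLinearGroup (Fin 2) F} (hI : I * I = -1) (hJ : J * J = -1)
    (hIJ : J * I = -(I * J)) :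
    ∃ h : Matrix.SpecialLinearGroup (Fin 2) F, orderOf h = 3 ∧ h * J * h⁻¹ = I ∧ h * I * h⁻¹ = I * J := by
  set X := (I : Matrix (Fin 2) (Fin 2) F) with hX
  set Y := (J : Matrix (Fin 2) (Fin 2) F) with hY
  have hX2 : X * X = -1 := by
    simpa using congrArg (fun z : Matrix.SpecialLinearGroup (Fin 2) F => (z : Matrix (Fin 2) (Fin 2) F)) hI
  have hY2 : Y * Y = -1 := by
    simpa using congrArg (fun z : Matrix.SpecialLinearGroup (Fin 2) F => (z : Matrix (Fin 2) (Fin 2) F)) hJ
  have hYX : Y * X = -(X * Y) := by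
    simpa using congrArg (fun z : Matrix.SpecialLinearGroup (Fin 2) F => (z : Matrix (Fin 2) (Fin 2) F)) hIJ
  set Z := X * Y with hZ
  have hXZ : X * Z = -Y := by rw [hZ, ← mul_assoc, hX2, neg_one_mul]
  have hYZ : Y * Z = X := by
    rw [hZ, ← mul_assoc, hYX, neg_mul, hZ, mul_assoc, hY2, mul_neg, mul_one, neg_neg]
  have hZX : Z * X = Y := by
    rw [hZ, mul_assoc, hYX, mul_neg, hXZ, neg_neg]
  have hZY : Z * Y = -X := by rw [hZ, mul_assoc, hY2, mul_neg, mul_one]
  have hZ2 : Z * Z = -1 := by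
    nth_rw 1 [hZ]
    rw [mul_assoc, hYZ, hX2]
  set A : Matrix (Fin 2) (Fin 2) F := -1 + X + Y + Z with hA
  have hAY : A * Y = X * A := by
    rw [hA]
    simp only [add_mul, mul_add, neg_mul, mul_neg, one_mul, mul_one, hX2, hY2, hZY, hXZ, ← hZ]
    abel
  have hAX : A * X = Z * A := by
    rw [hA]
    simp only [add_mul, mul_add, neg_mul, mul_neg, one_mul, mul_one, hX2, hYX, hZX, hZY, hZ2]
    abel
  have hA2 : A * A = (-2 : F) • A - (4 : F) • 1 := by
    rw [hA]
    simp only [add_mul, mul_add, neg_mul, mul_neg, one_mul, mul_one, hX2, hYX, hY2, hXZ, hZX, hYZ, hZY, hZ2, ← hZ]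
    simp only [smul_add, smul_neg, show (-2 : F) = -((1 : F) + 1) by norm_num,
      show (4 : F) = 1 + 1 + 1 + 1 by norm_num, neg_smul, add_smul, one_smul]
    abel
  have htr : ∀ x : Matrix.SpecialLinearGroup (Fin 2) F, x * x = -1 →
      tr x = 0 := by
    intro x hx
    have h := coe_sq x
    have hx' : (x : Matrix (Fin 2) (Fin 2) F) * x = -1 := by
      simpa using congrArg (fun z : Matrix.SpecialLinearGroup (Fin 2) F => (z : Matrix (Fin 2) (Fin 2) F)) hx
    rw [hx', eq_sub_iff_add_eq, neg_add_cancel, eq_comm, smul_eq_zero] at h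
    exact h.resolve_right fun h0 => x.det_ne_zero (by rw [h0, Matrix.det_zero])
  have hIJ2 : I * J * (I * J) = -1 := by
    apply Subtype.ext
    simpa [← hX, ← hY, ← hZ] using hZ2
  have tX := htr I hI
  have tY := htr J hJ
  have tZ := htr (I * J) hIJ2
  have dX := det_eq I
  simp only [tr] at tX tY tZ
  rw [Matrix.SpecialLinearGroup.coe_mul, ← hX, ← hY, ← hZ] at tZ
  rw [← hX] at tX
  rw [← hY] at tY
  have hdet : ((1 / 2 : F) • A).det = 1 := by
    have h00 := congrFun (congrFun hA2 0) 0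
    have h10 := congrFun (congrFun hA2 1) 1
    simp [Matrix.mul_apply, Fin.sum_univ_two] at h00 h10
    have e00 : A 0 0 = -1 + X 0 0 + Y 0 0 + Z 0 0 := by simp [hA]
    have e11 : A 1 1 = -1 + X 1 1 + Y 1 1 + Z 1 1 := by simp [hA]
    have etr : A 0 0 + A 1 1 = -2 := by rw [e00, e11]; linear_combination tX + tY + tZ
    rw [Matrix.det_fin_two]
    simp
    field_simp
    linear_combination -h00 + A 0 0 * etr
  let h : Matrix.SpecialLinearGroup (Fin 2) F := ⟨(1 / 2 : F) • A, hdet⟩
  refine ⟨h, ?_, ?_, ?_⟩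
  · refine orderOf_eq_prime ?_ ?_
    · apply Subtype.ext
      show ((1 / 2 : F) • A) ^ 3 = 1
      rw [smul_pow, show A ^ 3 = A * A * A by rw [pow_succ, pow_two], hA2, sub_mul, smul_mul_assoc,
        hA2, smul_mul_assoc, one_mul]
      match_scalars <;> (field_simp; ring)
    · intro h1
      have h' : (1 / 2 : F) • A = 1 :=
        congrArg (fun z : Matrix.SpecialLinearGroup (Fin 2) F => (z : Matrix (Fin 2) (Fin 2) F)) h1
      have hA2' : A = (2 : F) • 1 := by
        rw [← h', smul_smul, mul_one_div, div_self h2, one_smul]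
      rw [hA2', smul_mul_assoc, mul_smul_comm, one_mul, mul_one] at hAX hAY
      have hXZ' : X = Z := smul_right_injective _ h2 hAX
      have hYX' : Y = X := smul_right_injective _ h2 hAY
      rw [hYX', ← hXZ'] at hXZ
      rw [hX2] at hXZ
      have hX1 : X = 1 := by rw [← neg_neg X, ← hXZ, neg_neg]
      rw [hX1, one_mul] at hX2
      have := congrFun (congrFun hX2 0) 0
      simp at this
      exact h2 (by linear_combination this)
  · rw [mul_inv_eq_iff_eq_mul]
    apply Subtype.ext
    show (1 / 2 : F) • A * Y = X * ((1 / 2 : F) • A)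
    rw [smul_mul_assoc, mul_smul_comm, hAY]
  · rw [mul_inv_eq_iff_eq_mul]
    apply Subtype.ext
    show (1 / 2 : F) • A * X = X * Y * ((1 / 2 : F) • A)
    rw [smul_mul_assoc, mul_smul_comm, hAX, ← hZ]

end CfsgLib.SL2
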