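import Cfsg.Agent.SL2.Sylow
import Cfsg.Agent.SL2.Anticommute

/-!
# `PSL₂` over a field: images, involutions, their centralisers
-/

set_option autoImplicit false

namespace CfsgLib.SL2

variable {F : Type*} [Field F]

local notation "SL₂" F => Matrix.SpecialLinearGroup (Fin 2) F
local notation "PSL₂" F => Matrix.ProjectiveSpecialLinearGroup (Fin 2) F

/-- The projection `SL₂ → PSL₂`. -/
def pmk : (SL₂ F) →* (PSL₂ F) := QuotientGroup.mk' _

lemma pmk_surjective : Function.Surjective (pmk : (SL₂ F) → (PSL₂ F)) := QuotientGroup.mk_surjective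

lemma pmk_eq_one_iff {g : SL₂ F} : pmk g = 1 ↔ g = 1 ∨ g = -1 := by
  rw [← mem_center_iff']
  exact QuotientGroup.eq_one_iff g

@[simp] lemma pmk_neg (g : SL₂ F) : pmk (-g) = pmk g := by
  rw [← neg_one_mul, map_mul, pmk_eq_one_iff.2 (Or.inr rfl), one_mul]

lemma pmk_eq_iff {g h : SL₂ F} : pmk g = pmk h ↔ g = h ∨ g = -h := by
  constructor
  · intro e
    have h1 : pmk (h⁻¹ * g) = 1 := by rw [map_mul, map_inv, e, inv_mul_cancel]
    rcases pmk_eq_one_iff.1 h1 with e1 | e1
    · exact Or.inl (inv_mul_eq_one.1 e1).symm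
    · right
      calc g = h * (h⁻¹ * g) := (mul_inv_cancel_left h g).symm
        _ = -h := by rw [e1, mul_neg, mul_one]
  · rintro (rfl | rfl) <;> simp

lemma tr_ne_zero_of_center (h2 : (2 : F) ≠ 0) {g : SL₂ F} (hg : g ∈ Subgroup.center (SL₂ F)) :
    tr g ≠ 0 := by
  rcases mem_center_iff'.1 hg with rfl | rfl <;> simp [h2]

lemma mul_self_eq_neg_one_iff {g : SL₂ F} : g * g = -1 ↔ tr g = 0 := by
  refine ⟨fun h => ?_, mul_self_of_tr_eq_zero⟩
  have h' : (g : Matrix (Fin 2) (Fin 2) F) * g = -1 := by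
    simpa using congrArg (fun z : SL₂ F => (z : Matrix (Fin 2) (Fin 2) F)) h
  rw [coe_sq, sub_eq_neg_self, smul_eq_zero] at h'
  exact h'.resolve_right fun h0 => g.det_ne_zero (by rw [h0, Matrix.det_zero])

/-- In odd characteristic the involutions of `PSL₂` are the images of the elements of trace 0. -/
lemma orderOf_pmk_eq_two_iff (h2 : (2 : F) ≠ 0) {g : SL₂ F} : orderOf (pmk g) = 2 ↔ tr g = 0 := by
  constructor
  · intro h
    have h1 : pmk g ≠ 1 := fun e => by rw [e, orderOf_one] at h; omega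
    have h3 : pmk (g * g) = 1 := by
      have := pow_orderOf_eq_one (pmk g)
      rwa [h, pow_two, ← map_mul] at this
    rcases pmk_eq_one_iff.1 h3 with e | e
    · exfalso
      refine h1 (pmk_eq_one_iff.2 ?_)
      by_cases hg1 : g = 1
      · exact Or.inl hg1
      · exact Or.inr (eq_neg_one_of_mul_self h2 hg1 e)
    · exact mul_self_eq_neg_one_iff.1 e
  · intro h
    refine orderOf_eq_prime ?_ ?_
    · rw [pow_two, ← map_mul]
      exact pmk_eq_one_iff.2 (Or.inr (mul_self_of_tr_eq_zero h))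
    · intro e
      exact tr_ne_zero_of_center h2 (mem_center_iff'.2 (pmk_eq_one_iff.1 e)) h

lemma tr_zero_sq_ne_four (h2 : (2 : F) ≠ 0) {g : SL₂ F} (h : tr g = 0) : tr g ^ 2 ≠ 4 := by
  rw [h]
  intro h4
  exact mul_ne_zero h2 h2 (by linear_combination -h4)

/-- All involutions of `PSL₂(F)` are conjugate (`F` finite). -/
lemma isConj_of_orderOf_two [Finite F] {x y : PSL₂ F} (hx : orderOf x = 2) (hy : orderOf y = 2) :
    IsConj x y := by
  obtain ⟨g, rfl⟩ := pmk_surjective x
  obtain ⟨h, rfl⟩ := pmk_surjective y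
  refine MonoidHom.map_isConj pmk ?_
  by_cases h2 : (2 : F) = 0
  · have : CharP F 2 := CharTwo.of_one_ne_zero_of_two_eq_zero one_ne_zero h2
    have key : ∀ g : SL₂ F, orderOf (pmk g) = 2 → g ≠ 1 ∧ tr g = 2 := by
      intro g hg
      refine ⟨fun e => by rw [e, map_one, orderOf_one] at hg; omega, ?_⟩
      have h3 : pmk (g * g) = 1 := by
        have := pow_orderOf_eq_one (pmk g)
        rwa [hg, pow_two, ← map_mul] at this
      rw [pmk_eq_one_iff, neg_one_eq_one, or_self] at h3
      rw [h2]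
      exact mul_self_eq_neg_one_iff.1 (by rw [h3, neg_one_eq_one])
    obtain ⟨s, hs, hgs⟩ := exists_isConj_u (key g hx).1 (key g hx).2
    obtain ⟨t, ht, hht⟩ := exists_isConj_u (key h hy).1 (key h hy).2
    refine hgs.trans (IsConj.trans ?_ hht.symm)
    have := Fintype.ofFinite F
    rw [u_eq_upperU, u_eq_upperU, CfsgLib.Psl2Unipotent.isConj_upperU_iff hs ht]
    exact FiniteField.isSquare_of_char_two (ringChar.eq_iff.2 inferInstance) _
  · have hg := (orderOf_pmk_eq_two_iff h2).1 hx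
    have hh := (orderOf_pmk_eq_two_iff h2).1 hy
    exact isConj_of_tr_eq (tr_zero_sq_ne_four h2 hg) (hg.trans hh.symm)

lemma inv_of_tr_zero {g : SL₂ F} (h : tr g = 0) : g⁻¹ = -g :=
  inv_eq_of_mul_eq_one_right (by rw [mul_neg, mul_self_of_tr_eq_zero h, neg_neg])

/-- `pmk x` commutes with the involution `pmk g` iff `x` normalises the torus of `g`. -/
lemma commute_pmk_iff (h2 : (2 : F) ≠ 0) {g x : SL₂ F} (hg : tr g = 0) :
    Commute (pmk x) (pmk g) ↔ x ∈ Subgroup.normalizer
      ((Subgroup.centralizer ({g} : Set (SL₂ F)) : Subgroup (SL₂ F)) : Set (SL₂ F)) := by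
  rw [mem_normalizer_torus_iff (tr_zero_sq_ne_four h2 hg), inv_of_tr_zero hg]
  rw [show Commute (pmk x) (pmk g) ↔ pmk (x * g * x⁻¹) = pmk g by
    rw [map_mul, map_mul, map_inv, mul_inv_eq_iff_eq_mul]; rfl]
  exact pmk_eq_iff

/-- The centraliser of an involution is the image of the torus normaliser. -/
lemma centralizer_pmk (h2 : (2 : F) ≠ 0) {g : SL₂ F} (hg : tr g = 0) :
    Subgroup.centralizer ({pmk g} : Set (PSL₂ F)) = (Subgroup.normalizer
      ((Subgroup.centralizer ({g} : Set (SL₂ F)) : Subgroup (SL₂ F)) : Set (SL₂ F))).map pmk := by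
  ext y
  obtain ⟨x, rfl⟩ := pmk_surjective y
  rw [Subgroup.mem_centralizer_singleton_iff]
  constructor
  · intro h
    exact ⟨x, (commute_pmk_iff h2 hg).1 h, rfl⟩
  · rintro ⟨z, hz, hzx⟩
    rw [← hzx]
    exact (commute_pmk_iff h2 hg).2 hz

lemma card_map_pmk (h2 : (2 : F) ≠ 0) [Finite F] (H : Subgroup (SL₂ F)) (hH : (-1 : SL₂ F) ∈ H) :
    2 * Nat.card (H.map pmk) = Nat.card H := by
  have hz : Subgroup.center (SL₂ F) ≤ H := fun z hz => by
    rcases mem_center_iff'.1 hz with rfl | rfl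
    · exact one_mem _
    · exact hH
  have hk : (pmk : (SL₂ F) →* (PSL₂ F)).ker = Subgroup.center (SL₂ F) := QuotientGroup.ker_mk' _
  have h := ((pmk : (SL₂ F) →* (PSL₂ F)).comp H.subtype).ker.card_mul_index
  rw [Subgroup.index_ker, MonoidHom.range_comp, Subgroup.range_subtype, ← MonoidHom.comap_ker, hk,
    ← Subgroup.subgroupOf, Nat.card_congr (Subgroup.subgroupOfEquivOfLe hz).toEquiv, card_center_odd h2] at h
  exact h

/-- The centraliser of an involution `pmk g` has the order of `C(g)`. -/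
lemma card_centralizer_pmk [Finite F] (h2 : (2 : F) ≠ 0) {g : SL₂ F} (hg : tr g = 0) :
    Nat.card (Subgroup.centralizer ({pmk g} : Set (PSL₂ F))) =
      Nat.card (Subgroup.centralizer ({g} : Set (SL₂ F))) := by
  have h := card_map_pmk h2 _ (Subgroup.le_normalizer (Subgroup.center_le_centralizer ({g} : Set (SL₂ F))
    neg_one_mem_center))
  rw [← centralizer_pmk h2 hg, card_normalizer_torus (tr_zero_sq_ne_four h2 hg)] at h
  omega

/-- Two involutions commute and differ iff the trace of the product vanishes as well. -/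
lemma anticommute_of_commute_pmk (h2 : (2 : F) ≠ 0) {g h : SL₂ F} (hg : tr g = 0) (hh : tr h = 0)
    (hc : Commute (pmk h) (pmk g)) (hne : pmk h ≠ pmk g) : h * g = -(g * h) ∧ tr (g * h) = 0 := by
  have ht := tr_zero_sq_ne_four h2 hg
  have hgc := not_mem_center_of_tr_sq_ne ht
  rcases (mem_normalizer_torus_iff ht).1 ((commute_pmk_iff h2 hg).1 hc) with e | e
  · exfalso
    have hmem : h ∈ Subgroup.centralizer ({g} : Set (SL₂ F)) :=
      Subgroup.mem_centralizer_singleton_iff.2 (mul_inv_eq_iff_eq_mul.1 e)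
    rcases eq_or_eq_inv_of_tr_eq ht hmem (hh.trans hg.symm) with e1 | e1
    · exact hne (congrArg pmk e1)
    · exact hne (by rw [e1, inv_of_tr_zero hg, pmk_neg])
  · have he : h * g = -(g * h) := by
      rw [mul_inv_eq_iff_eq_mul, inv_of_tr_zero hg, neg_mul] at e
      exact e
    refine ⟨he, mul_self_eq_neg_one_iff.1 ?_⟩
    calc g * h * (g * h) = g * (h * g) * h := by group
      _ = -(g * (g * h) * h) := by rw [he, mul_neg, neg_mul]
      _ = -1 := by
        rw [← mul_assoc g g h, mul_assoc (g * g) h h, mul_self_of_tr_eq_zero hg,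
          mul_self_of_tr_eq_zero hh]
        simp

end CfsgLib.SL2
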