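import Cfsg.Agent.SL2.Klein
import Cfsg.Agent.SL2.Sylow

/-!
# Redundant Sylow subgroups of `SL₂(q)` and `PSL₂(q)`
-/

set_option autoImplicit false

namespace CfsgLib.SL2

section General

variable {G H : Type*} [Group G] [Group H] {p : ℕ}

/-- Some Sylow subgroup is contained in the union of the others. -/
def HasRedundantSylow (p : ℕ) (G : Type*) [Group G] : Prop :=
  ∃ Q : Sylow p G, ∀ x : G, (∃ k : ℕ, orderOf x = p ^ k) → ∃ P : Sylow p G, P ≠ Q ∧ x ∈ P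

lemma exists_sylow_mem [Fact p.Prime] {x : G} (hx : ∃ k : ℕ, orderOf x = p ^ k) :
    ∃ P : Sylow p G, x ∈ P := by
  obtain ⟨k, hk⟩ := hx
  obtain ⟨P, hP⟩ := (IsPGroup.of_card (G := Subgroup.zpowers x) (n := k)
    (by rw [Nat.card_zpowers, hk])).exists_le_sylow
  exact ⟨P, hP (Subgroup.mem_zpowers x)⟩

lemma mem_sylow_of_central [Fact p.Prime] [Finite G] {z : G} (hz : z ∈ Subgroup.center G)
    (hzp : ∃ k : ℕ, z ^ p ^ k = 1) (P : Sylow p G) : z ∈ P := by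
  obtain ⟨k, hk⟩ := hzp
  obtain ⟨i, -, hi⟩ := (Nat.dvd_prime_pow Fact.out).1 (orderOf_dvd_of_pow_eq_one hk)
  obtain ⟨P₀, hP₀⟩ := exists_sylow_mem ⟨i, hi⟩
  obtain ⟨g, rfl⟩ := MulAction.exists_smul_eq G P₀ P
  refine ⟨z, hP₀, ?_⟩
  show g * z * g⁻¹ = z
  rw [Subgroup.mem_center_iff.1 hz g, mul_inv_cancel_right]

lemma exists_pow_eq_one_of_mem_sylow (P : Sylow p G) {a : G} (ha : a ∈ P) :
    ∃ k : ℕ, a ^ p ^ k = 1 := by
  obtain ⟨k, hk⟩ := P.isPGroup' ⟨a, ha⟩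
  exact ⟨k, congrArg Subtype.val hk⟩

lemma mem_sylow_of_map_mem [Fact p.Prime] [Finite G] {f : G →* H}
    (hker : f.ker ≤ Subgroup.center G) (P : Sylow p G) {x : G}
    (hx : ∃ k : ℕ, x ^ p ^ k = 1) (hfx : f x ∈ (P : Subgroup G).map f) : x ∈ P := by
  obtain ⟨a, ha, hax⟩ := hfx
  have hz : a⁻¹ * x ∈ Subgroup.center G :=
    hker (by rw [MonoidHom.mem_ker, map_mul, map_inv, hax, inv_mul_cancel])
  obtain ⟨i, hi⟩ := exists_pow_eq_one_of_mem_sylow P ha
  obtain ⟨j, hj⟩ := hx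
  have hcomm : Commute a⁻¹ x := by
    have h := (Subgroup.mem_center_iff.1 hz a).symm
    -- `(a⁻¹ x) a = a (a⁻¹ x) = x`
    rw [mul_inv_cancel_left] at h
    show a⁻¹ * x = x * a⁻¹
    rw [eq_mul_inv_iff_mul_eq]
    exact h
  have hzp : (a⁻¹ * x) ^ p ^ (i + j) = 1 := by
    rw [hcomm.mul_pow, inv_pow, pow_add, pow_mul, hi, one_pow, inv_one, one_mul,
      mul_comm (p ^ i), pow_mul, hj, one_pow]
  have := mem_sylow_of_central hz ⟨_, hzp⟩ P
  have h2' := P.toSubgroup.mul_mem ha this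
  rwa [mul_inv_cancel_left] at h2'

/-- Redundancy of Sylow subgroups is invariant under central quotients. -/
lemma hasRedundantSylow_iff [Fact p.Prime] [Finite G] {f : G →* H} (hf : Function.Surjective f)
    (hker : f.ker ≤ Subgroup.center G) : HasRedundantSylow p H ↔ HasRedundantSylow p G := by
  have : Finite H := Finite.of_surjective f hf
  have hpow : ∀ {x : G}, (∃ k : ℕ, orderOf x = p ^ k) → ∃ k : ℕ, x ^ p ^ k = 1 := by
    rintro x ⟨k, hk⟩
    exact ⟨k, by rw [← hk, pow_orderOf_eq_one]⟩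
  have hord : ∀ {x : G}, (∃ k : ℕ, x ^ p ^ k = 1) → ∃ k : ℕ, orderOf x = p ^ k := by
    rintro x ⟨k, hk⟩
    obtain ⟨i, -, hi⟩ := (Nat.dvd_prime_pow Fact.out).1 (orderOf_dvd_of_pow_eq_one hk)
    exact ⟨i, hi⟩
  have hinj : ∀ P Q : Sylow p G, P.mapSurjective hf = Q.mapSurjective hf → P = Q := by
    intro P Q h
    have hle : (P : Subgroup G) ≤ Q := fun a ha => mem_sylow_of_map_mem hker Q
      (exists_pow_eq_one_of_mem_sylow P ha) (by
        have : f a ∈ (P.mapSurjective hf : Subgroup H) := ⟨a, ha, rfl⟩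
        rw [h] at this
        exact this)
    exact Sylow.ext (P.is_maximal' Q.isPGroup' hle).symm
  constructor
  · rintro ⟨Q', hQ'⟩
    obtain ⟨Q, rfl⟩ := Sylow.mapSurjective_surjective hf p Q'
    refine ⟨Q, fun x hx => ?_⟩
    obtain ⟨k, hk⟩ := hx
    obtain ⟨i, -, hi⟩ := (Nat.dvd_prime_pow Fact.out).1 (hk ▸ orderOf_map_dvd f x)
    obtain ⟨P', hne, hP'⟩ := hQ' (f x) ⟨i, hi⟩
    obtain ⟨P, rfl⟩ := Sylow.mapSurjective_surjective hf p P'
    exact ⟨P, fun e => hne (by rw [e]), mem_sylow_of_map_mem hker P (hpow ⟨k, hk⟩) hP'⟩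
  · rintro ⟨Q, hQ⟩
    refine ⟨Q.mapSurjective hf, fun y hy => ?_⟩
    obtain ⟨P', hP'⟩ := exists_sylow_mem hy
    obtain ⟨P₀, rfl⟩ := Sylow.mapSurjective_surjective hf p P'
    obtain ⟨x, hx, rfl⟩ := hP'
    obtain ⟨P, hne, hP⟩ := hQ x (hord (exists_pow_eq_one_of_mem_sylow P₀ hx))
    exact ⟨P.mapSurjective hf, fun e => hne (hinj _ _ e), ⟨x, hP, rfl⟩⟩

lemma not_hasRedundantSylow_of_cyclic [Fact p.Prime] [Finite G]
    (h : ∀ P : Sylow p G, IsCyclic (P : Subgroup G)) : ¬ HasRedundantSylow p G := by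
  rintro ⟨Q, hQ⟩
  have := h Q
  obtain ⟨⟨x, hx⟩, hgen⟩ := IsCyclic.exists_generator (α := (Q : Subgroup G))
  obtain ⟨k, hk⟩ := exists_pow_eq_one_of_mem_sylow Q hx
  obtain ⟨i, -, hi⟩ := (Nat.dvd_prime_pow Fact.out).1 (orderOf_dvd_of_pow_eq_one hk)
  obtain ⟨P, hne, hP⟩ := hQ x ⟨i, hi⟩
  refine hne (Sylow.ext (Q.is_maximal' P.isPGroup' fun y hy => ?_))
  obtain ⟨j, hj⟩ := Subgroup.mem_zpowers_iff.1 (hgen ⟨y, hy⟩)
  have hj' : x ^ j = y := congrArg Subtype.val hj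
  rw [← hj']
  exact zpow_mem hP j

end General

variable {F : Type*} [Field F]

local notation "SL₂" F => Matrix.SpecialLinearGroup (Fin 2) F
local notation "PSL₂" F => Matrix.ProjectiveSpecialLinearGroup (Fin 2) F

lemma not_hasRedundantSylow_char [Fintype F] {p : ℕ} [Fact p.Prime] [CharP F p] :
    ¬ HasRedundantSylow p (SL₂ F) := by
  rintro ⟨Q, hQ⟩
  obtain ⟨c, hc⟩ := exists_conj_uSylow Q
  have hxQ : c * u 1 * c⁻¹ ∈ (Q : Subgroup (SL₂ F)) := by
    rw [hc]; exact ⟨u 1, u_mem_U 1, rfl⟩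
  obtain ⟨k, hk⟩ := exists_pow_eq_one_of_mem_sylow Q hxQ
  obtain ⟨i, -, hi⟩ := (Nat.dvd_prime_pow Fact.out).1 (orderOf_dvd_of_pow_eq_one hk)
  obtain ⟨P, hne, hP⟩ := hQ _ ⟨i, hi⟩
  have h1 : c * u 1 * c⁻¹ = 1 := by
    rw [← Subgroup.mem_bot, ← (sylow_pair hne).1]
    exact ⟨hP, hxQ⟩
  rw [mul_inv_eq_one, mul_eq_left, u_eq_one_iff] at h1
  exact one_ne_zero h1

/-- A non-central `2`-element is semisimple, for odd `q`. -/
lemma tr_sq_ne_four_of_two_pow [Fintype F] (h2 : (2 : F) ≠ 0) {x : SL₂ F}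
    (hx : ∃ k : ℕ, x ^ 2 ^ k = 1) (hc : x ∉ Subgroup.center (SL₂ F)) : tr x ^ 2 ≠ 4 := by
  intro h
  obtain ⟨p, hp⟩ := CharP.exists F
  have : Fact p.Prime := ⟨CharP.char_is_prime F p⟩
  have hp2 : p ≠ 2 := fun e => h2 (by subst e; exact CharTwo.two_eq_zero)
  obtain ⟨k, hk⟩ := hx
  have h1 := orderOf_dvd_of_pow_eq_one hk
  have h3 := orderOf_dvd_of_pow_eq_one (pow_two_mul_char_eq_one (p := p) h)
  have hcop : Nat.Coprime (orderOf x) p :=
    Nat.Coprime.coprime_dvd_left h1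
      (Nat.Coprime.pow_left k ((Nat.coprime_primes Nat.prime_two Fact.out).2 hp2.symm))
  rcases (Nat.dvd_prime Nat.prime_two).1 (hcop.dvd_of_dvd_mul_right h3) with e | e
  · exact hc (orderOf_eq_one_iff.1 e ▸ one_mem _)
  · exact hc ((orderOf_eq_two_iff h2).1 e ▸ neg_one_mem_center)

lemma card_centralizer_cases [Fintype F] {x : SL₂ F} (hx : tr x ^ 2 ≠ 4) :
    Nat.card (Subgroup.centralizer ({x} : Set (SL₂ F))) = Fintype.card F - 1 ∨
      Nat.card (Subgroup.centralizer ({x} : Set (SL₂ F))) = Fintype.card F + 1 := by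
  by_cases hs : IsSplitTrace (tr x)
  · exact Or.inl (card_centralizer_split hx hs)
  · exact Or.inr (card_centralizer_nonsplit hs)

/-- The `2`-part of the torus normaliser when the torus is a `2`-group. -/
lemma not_hasRedundantSylow_two [Fintype F] (hodd : Odd (Fintype.card F))
    (h : (∃ k : ℕ, Fintype.card F + 1 = 2 ^ k) ∨ (∃ k : ℕ, Fintype.card F = 2 ^ k + 1)) :
    ¬ HasRedundantSylow 2 (SL₂ F) := by
  have : Fact (2 : ℕ).Prime := ⟨Nat.prime_two⟩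
  have h2 := two_ne_zero_iff_odd.2 hodd
  have hq := one_lt_q (F := F)
  obtain ⟨e1, e3⟩ := card_centralizer_tr_zero h2 (tr_w (F := F))
  set C₀ := Subgroup.centralizer ({w} : Set (SL₂ F)) with hC₀
  have hq2 := Nat.odd_iff.1 hodd
  -- the torus of `w` is a `2`-group, the other torus has twice odd order
  obtain ⟨k, m, hk, hm, hmC⟩ : ∃ k m : ℕ, Nat.card C₀ = 2 ^ k ∧ m % 2 = 1 ∧
      (Fintype.card F ^ 2 - 1) = 2 ^ k * (2 * m) := by
    have hsq : Fintype.card F ^ 2 - 1 = (Fintype.card F + 1) * (Fintype.card F - 1) := by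
      simpa using Nat.sq_sub_sq (Fintype.card F) 1
    rcases (show Fintype.card F % 4 = 1 ∨ Fintype.card F % 4 = 3 by omega) with h4 | h4
    · rcases h with ⟨k, hk⟩ | ⟨k, hk⟩
      · rcases le_or_gt k 1 with hk1 | hk1
        · interval_cases k <;> omega
        · obtain ⟨j, rfl⟩ := Nat.exists_eq_add_of_le (show 2 ≤ k by omega)
          rw [pow_add] at hk; omega
      · refine ⟨k, (Fintype.card F + 1) / 2, by rw [e1 h4, hk, Nat.add_sub_cancel], by omega, ?_⟩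
        rw [hsq, show 2 * ((Fintype.card F + 1) / 2) = Fintype.card F + 1 by omega, hk,
          Nat.add_sub_cancel, mul_comm]
    · rcases h with ⟨k, hk⟩ | ⟨k, hk⟩
      · refine ⟨k, (Fintype.card F - 1) / 2, by rw [e3 h4, hk], by omega, ?_⟩
        rw [hsq, show 2 * ((Fintype.card F - 1) / 2) = Fintype.card F - 1 by omega, hk]
      · refine ⟨2, 1, ?_, rfl, ?_⟩
        · rcases le_or_gt k 1 with hk1 | hk1
          · interval_cases k <;> simp_all
          · obtain ⟨j, rfl⟩ := Nat.exists_eq_add_of_le (show 2 ≤ k by omega)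
            rw [pow_add] at hk; omega
        · rcases le_or_gt k 1 with hk1 | hk1
          · interval_cases k <;> simp_all
          · obtain ⟨j, rfl⟩ := Nat.exists_eq_add_of_le (show 2 ≤ k by omega)
            rw [pow_add] at hk; omega
  set N₀ := Subgroup.normalizer ((C₀ : Subgroup (SL₂ F)) : Set (SL₂ F)) with hN₀
  have hwt := tr_zero_sq_ne_four h2 (tr_w (F := F))
  have hN : Nat.card N₀ = 2 ^ (k + 1) := by
    rw [hN₀, hC₀, card_normalizer_torus hwt, ← hC₀, hk, pow_succ']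
  have hidx : ¬ (2 : ℕ) ∣ N₀.index := by
    have e := N₀.card_mul_index
    rw [hN, card_SL, hmC, show Fintype.card F * (2 ^ k * (2 * m)) =
      2 ^ (k + 1) * (Fintype.card F * m) by ring] at e
    rw [Nat.eq_of_mul_eq_mul_left (by positivity) e, ← even_iff_two_dvd, Nat.not_even_iff_odd]
    exact hodd.mul (Nat.odd_iff.2 hm)
  let P₀ : Sylow 2 (SL₂ F) := (IsPGroup.of_card hN).toSylow hidx
  rintro ⟨Q, hQ⟩
  obtain ⟨g, hg⟩ := MulAction.exists_smul_eq (SL₂ F) P₀ Q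
  have := isCyclic_centralizer hwt
  obtain ⟨⟨z, hz⟩, hgen⟩ := IsCyclic.exists_generator (α := C₀)
  have hzp : ∃ i : ℕ, orderOf (g * z * g⁻¹) = 2 ^ i := by
    refine ⟨k, ?_⟩
    rw [← hk, ← orderOf_eq_card_of_forall_mem_zpowers hgen, Subgroup.orderOf_mk]
    exact orderOf_injective (MulAut.conj g).toMonoidHom (MulAut.conj g).injective z
  obtain ⟨P, hne, hP⟩ := hQ _ hzp
  apply hne
  have hR : z ∈ (g⁻¹ • P : Sylow 2 (SL₂ F)) := by
    refine ⟨g * z * g⁻¹, hP, ?_⟩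
    show g⁻¹ * (g * z * g⁻¹) * g⁻¹⁻¹ = z
    group
  suffices hRN : g⁻¹ • P = P₀ by rw [← hg, ← hRN, smul_inv_smul]
  set R := (g⁻¹ • P : Sylow 2 (SL₂ F)) with hRdef
  have hle : C₀ ≤ (R : Subgroup (SL₂ F)) := by
    intro y hy
    obtain ⟨j, hj⟩ := Subgroup.mem_zpowers_iff.1 (hgen ⟨y, hy⟩)
    have hj' : z ^ j = y := congrArg Subtype.val hj
    rw [← hj']
    exact zpow_mem hR j
  have hcardR : Nat.card (R : Subgroup (SL₂ F)) = 2 ^ (k + 1) :=
    (Sylow.card_eq_multiplicity R).trans ((Sylow.card_eq_multiplicity P₀).symm.trans hN)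
  have hidx2 : (C₀.subgroupOf (R : Subgroup (SL₂ F))).index = 2 := by
    have e := (C₀.subgroupOf (R : Subgroup (SL₂ F))).card_mul_index
    rw [hcardR, Nat.card_congr (Subgroup.subgroupOfEquivOfLe hle).toEquiv, hk, pow_succ] at e
    exact Nat.eq_of_mul_eq_mul_left (by positivity) e
  have := Subgroup.normal_of_index_eq_two hidx2
  have hRle : (R : Subgroup (SL₂ F)) ≤ N₀ :=
    (Subgroup.normal_subgroupOf_iff_le_normalizer hle).1 inferInstance
  exact Sylow.ext (R.is_maximal' P₀.isPGroup' hRle).symm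

lemma exists_other_sylow_of_noncentral [Fintype F] (h2 : (2 : F) ≠ 0)
    (hp : ¬ ∃ k : ℕ, Fintype.card F + 1 = 2 ^ k) (hm : ¬ ∃ k : ℕ, Fintype.card F = 2 ^ k + 1)
    [Fact (2 : ℕ).Prime] (Q : Sylow 2 (SL₂ F)) {x : SL₂ F} (hx : x ∈ Q)
    (hc : x ∉ Subgroup.center (SL₂ F)) : ∃ P : Sylow 2 (SL₂ F), P ≠ Q ∧ x ∈ P := by
  have hxt := tr_sq_ne_four_of_two_pow h2 (exists_pow_eq_one_of_mem_sylow Q hx) hc
  set C := Subgroup.centralizer ({x} : Set (SL₂ F)) with hC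
  have hcy : IsCyclic C := isCyclic_centralizer hxt
  have hC0 : Nat.card C ≠ 0 := Nat.card_pos.ne'
  obtain ⟨r, hr, hr2, hrd⟩ : ∃ r : ℕ, r.Prime ∧ r ≠ 2 ∧ r ∣ Nat.card C := by
    by_contra hcon
    push Not at hcon
    have e := Nat.eq_prime_pow_of_unique_prime_dvd hC0 (p := 2) (fun {d} hd hdd => by
      by_contra hne
      exact hcon d hd hne hdd)
    rcases card_centralizer_cases hxt with e' | e'
    · exact hm ⟨_, by rw [← e, e']; have := one_lt_q (F := F); omega⟩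
    · exact hp ⟨_, by rw [← e, e']⟩
  have : Fact r.Prime := ⟨hr⟩
  obtain ⟨⟨z, hz⟩, hzo⟩ := exists_prime_orderOf_dvd_card' r hrd
  rw [Subgroup.orderOf_mk] at hzo
  have hzx : z * x * z⁻¹ = x := by
    rw [Subgroup.mem_centralizer_singleton_iff.1 hz, mul_inv_cancel_right]
  refine ⟨z • Q, fun e => ?_, ⟨x, hx, hzx⟩⟩
  -- `z` normalises `Q`
  have hzN : ∀ y ∈ (Q : Subgroup (SL₂ F)), z * y * z⁻¹ ∈ (Q : Subgroup (SL₂ F)) := by
    intro y hy
    have hy' : z * y * z⁻¹ ∈ ((z • Q : Sylow 2 (SL₂ F)) : Subgroup (SL₂ F)) := ⟨y, hy, rfl⟩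
    rwa [e] at hy'
  set CQ := C.subgroupOf (Q : Subgroup (SL₂ F)) with hCQ
  have hlt : CQ < ⊤ := by
    refine lt_of_le_of_ne le_top (fun h => sylow_two_not_isCyclic h2 Q ?_)
    have := hcy
    exact isCyclic_of_injective (Subgroup.inclusion (Subgroup.subgroupOf_eq_top.1 h))
      (Subgroup.inclusion_injective _)
  have := Q.isPGroup'.isNilpotent
  obtain ⟨⟨y, hy⟩, hyN, hyC⟩ := SetLike.exists_of_lt (Group.normalizerCondition_of_isNilpotent CQ hlt)
  have hyx : (⟨y, hy⟩ : (Q : Subgroup (SL₂ F))) * ⟨x, hx⟩ * ⟨y, hy⟩⁻¹ ∈ CQ :=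
    (Subgroup.mem_normalizer_iff.1 hyN _).1
      (Subgroup.mem_subgroupOf.2 (Subgroup.mem_centralizer_singleton_iff.2 rfl))
  rw [Subgroup.mem_subgroupOf] at hyx
  have hinv : y * x * y⁻¹ = x⁻¹ := by
    rcases eq_or_eq_inv_of_tr_eq hxt hyx (tr_conj x y) with h | h
    · refine absurd ?_ hyC
      exact Subgroup.mem_subgroupOf.2
        (Subgroup.mem_centralizer_singleton_iff.2 (mul_inv_eq_iff_eq_mul.1 h))
    · exact h
  have hyz : y * z * y⁻¹ = z⁻¹ := inverts_torus hxt hinv hz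
  have hzz : z * z ∈ (Q : Subgroup (SL₂ F)) := by
    have h' : y * z⁻¹ * y⁻¹ = z := by
      rw [show y * z⁻¹ * y⁻¹ = (y * z * y⁻¹)⁻¹ by group, hyz, inv_inv]
    have := mul_mem (hzN y hy) (inv_mem hy)
    rwa [show z * y * z⁻¹ * y⁻¹ = z * (y * z⁻¹ * y⁻¹) by group, h'] at this
  obtain ⟨i, hi⟩ := exists_pow_eq_one_of_mem_sylow Q hzz
  rw [← pow_two, ← pow_mul, ← pow_succ'] at hi
  have hd := orderOf_dvd_of_pow_eq_one hi
  rw [hzo] at hd
  exact hr2 ((Nat.prime_dvd_prime_iff_eq hr Nat.prime_two).1 (hr.dvd_of_dvd_pow hd))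

lemma hasRedundantSylow_two [Fintype F] (hodd : Odd (Fintype.card F))
    (hp : ¬ ∃ k : ℕ, Fintype.card F + 1 = 2 ^ k) (hm : ¬ ∃ k : ℕ, Fintype.card F = 2 ^ k + 1) :
    HasRedundantSylow 2 (SL₂ F) := by
  have : Fact (2 : ℕ).Prime := ⟨Nat.prime_two⟩
  have h2 := two_ne_zero_iff_odd.2 hodd
  obtain ⟨Q⟩ : Nonempty (Sylow 2 (SL₂ F)) := inferInstance
  refine ⟨Q, fun x hx => ?_⟩
  obtain ⟨P, hP⟩ := exists_sylow_mem hx
  rcases eq_or_ne P Q with rfl | hne
  · by_cases hc : x ∈ Subgroup.center (SL₂ F)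
    · obtain ⟨y, hy, hyc⟩ :
          ∃ y ∈ (P : Subgroup (SL₂ F)), y ∉ Subgroup.center (SL₂ F) := by
        by_contra hcon
        push Not at hcon
        refine sylow_two_not_isCyclic h2 P ?_
        have : IsCyclic (Subgroup.center (SL₂ F)) :=
          isCyclic_of_prime_card (p := 2) (card_center_odd h2)
        exact isCyclic_of_injective (Subgroup.inclusion hcon) (Subgroup.inclusion_injective _)
      obtain ⟨R, hR, -⟩ := exists_other_sylow_of_noncentral h2 hp hm P hy hyc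
      obtain ⟨k, hk⟩ := hx
      exact ⟨R, hR, mem_sylow_of_central hc ⟨k, hk ▸ pow_orderOf_eq_one x⟩ R⟩
    · exact exists_other_sylow_of_noncentral h2 hp hm P hP hc
  · exact ⟨P, hne, hP⟩

/-- Redundant Sylow subgroups in `SL₂(q)`. -/
lemma hasRedundantSylow_SL_iff [Fintype F] (p : ℕ) [Fact p.Prime] :
    HasRedundantSylow p (SL₂ F) ↔
      (p = 2 ∧ (¬ ∃ k : ℕ, Fintype.card F + 1 = 2 ^ k) ∧ (¬ ∃ k : ℕ, Fintype.card F = 2 ^ k) ∧
        ¬ ∃ k : ℕ, Fintype.card F = 2 ^ k + 1) := by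
  obtain ⟨c, hc⟩ := CharP.exists F
  have : Fact c.Prime := ⟨CharP.char_is_prime F c⟩
  obtain ⟨n, hcn, hn⟩ := FiniteField.card F c
  constructor
  · intro h
    have hpc : p ≠ c := by
      rintro rfl
      exact not_hasRedundantSylow_char h
    have hp2 : p = 2 := by
      by_contra hp2
      exact not_hasRedundantSylow_of_cyclic (fun P => isCyclic_sylow_odd (p := c) hp2 hpc P) h
    subst hp2
    have hodd : Odd (Fintype.card F) := by
      rw [hn]; exact ((Nat.Prime.odd_of_ne_two hcn) hpc.symm).pow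
    refine ⟨rfl, fun hk => not_hasRedundantSylow_two hodd (Or.inl hk) h, ?_,
      fun hk => not_hasRedundantSylow_two hodd (Or.inr hk) h⟩
    rintro ⟨k, hk⟩
    have hq := one_lt_q (F := F)
    rcases Nat.eq_zero_or_pos k with rfl | hk0
    · omega
    · exact (Nat.not_even_iff_odd.2 hodd) (hk ▸ (Nat.even_pow.2 ⟨even_two, hk0.ne'⟩))
  · rintro ⟨rfl, hp, hq, hm⟩
    refine hasRedundantSylow_two ?_ hp hm
    rw [hn]
    exact ((Nat.Prime.odd_of_ne_two hcn) (fun e => hq ⟨n, by rw [hn, e]⟩)).pow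

lemma hasRedundantSylow_PSL_iff [Fintype F] (p : ℕ) [Fact p.Prime] :
    HasRedundantSylow p (PSL₂ F) ↔ HasRedundantSylow p (SL₂ F) :=
  hasRedundantSylow_iff (f := pmk) pmk_surjective (QuotientGroup.ker_mk' _).le

end CfsgLib.SL2
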